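import Mathlib
import Groth.Prelude.Def_W4c6puncthilbintroLift
import Groth.Agent.Lib.Helper1.FlatNilpotent

namespace Groth.Agent.H5.DN

open TrivSqZeroExt DualNumber TensorProduct W4c6puncthilbintro

universe u

attribute [local instance] W4c6puncthilbintro.dualAlgebra

variable (A : Type u) [CommRing A] (R : Type u) [CommRing R] [Algebra A R]

lemma algebraMap_dual (s : DualNumber A) :
    algebraMap (DualNumber A) (DualNumber R) s =
      inl (algebraMap A R s.fst) + inr (algebraMap A R s.snd) := by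
  change dualMap A R s = _
  conv_lhs => rw [← TrivSqZeroExt.inl_fst_add_inr_snd_eq s, DualNumber.inr_eq_smul_eps]
  rw [map_add, map_smul, dualMap_inl, dualMap_eps, TrivSqZeroExt.algebraMap_eq_inl']
  ext
  · simp
  · simp [Algebra.smul_def, TrivSqZeroExt.algebraMap_eq_inl']

lemma fst_algebraMap (s : DualNumber A) :
    (algebraMap (DualNumber A) (DualNumber R) s).fst = algebraMap A R s.fst := by
  rw [algebraMap_dual]; simp

lemma snd_algebraMap (s : DualNumber A) :
    (algebraMap (DualNumber A) (DualNumber R) s).snd = algebraMap A R s.snd := by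
  rw [algebraMap_dual]; simp [Algebra.algebraMap_eq_smul_one]


/-- the ideal `(ε)` of `A[ε]` -/
def J₀ : Ideal (DualNumber A) := RingHom.ker (fstHom A A A).toRingHom

variable {A}

lemma mem_J₀ {s : DualNumber A} : s ∈ J₀ A ↔ s.fst = 0 := by
  simp [J₀, RingHom.mem_ker]

lemma eps_mem_J₀ : (ε : DualNumber A) ∈ J₀ A := by
  rw [mem_J₀]; simp

lemma eq_inr_of_mem_J₀ {s : DualNumber A} (hs : s ∈ J₀ A) : s = inr s.snd := by
  rw [mem_J₀] at hs
  ext <;> simp [hs]

lemma J₀_nilpotent : IsNilpotent (J₀ A) := by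
  refine ⟨2, ?_⟩
  have h2 : J₀ A * J₀ A = ⊥ := by
    rw [← le_bot_iff, Ideal.mul_le]
    intro x hx y hy
    rw [eq_inr_of_mem_J₀ hx, eq_inr_of_mem_J₀ hy, TrivSqZeroExt.inr_mul_inr]
    exact Ideal.zero_mem _
  exact (pow_two (J₀ A)).trans h2

variable {R}

section flat

variable (I : Ideal R) (J : Ideal (DualNumber R))
  (hfst : ∀ x ∈ J, x.fst ∈ I) (hsurj : ∀ a ∈ I, ∃ x ∈ J, x.fst = a)
  (hP : ∀ r : R, (inr r : DualNumber R) ∈ J → r ∈ I)

include hsurj in
/-- if the first component of `x` lies in `I` then `[x] = ε • [inl c]`. -/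
lemma exists_eq_eps_smul (x : DualNumber R) (hx : x.fst ∈ I) :
    ∃ c : R, (Ideal.Quotient.mk J x : DualNumber R ⧸ J) =
      (ε : DualNumber A) • (Ideal.Quotient.mk J (inl c) : DualNumber R ⧸ J) := by
  obtain ⟨y, hy, hyx⟩ := hsurj _ hx
  refine ⟨x.snd - y.snd, ?_⟩
  change _ = Ideal.Quotient.mk J ((ε : DualNumber A) • (inl (x.snd - y.snd) : DualNumber R))
  rw [Algebra.smul_def, Ideal.Quotient.eq]
  have : x - algebraMap (DualNumber A) (DualNumber R) ε * inl (x.snd - y.snd) = y := by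
    rw [algebraMap_dual]
    ext <;> simp [hyx]
  rw [this]
  exact hy

/-- `ε` as an element of `J₀`. -/
def epsJ : ↥(J₀ A) := ⟨ε, eps_mem_J₀⟩

lemma exists_eps_tmul (z : ↥(J₀ A) ⊗[DualNumber A] (DualNumber R ⧸ J)) :
    ∃ m : DualNumber R ⧸ J, z = (epsJ : ↥(J₀ A)) ⊗ₜ[DualNumber A] m := by
  induction z using TensorProduct.induction_on with
  | zero => exact ⟨0, (tmul_zero _ _).symm⟩
  | tmul j m =>
    refine ⟨(inl (j : DualNumber A).snd : DualNumber A) • m, ?_⟩
    have h1 := TensorProduct.smul_tmul (R := DualNumber A)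
      (inl (j : DualNumber A).snd : DualNumber A) (epsJ : ↥(J₀ A)) m
    rw [← h1]
    congr 1
    apply Subtype.ext
    rw [Submodule.coe_smul, epsJ, smul_eq_mul]
    conv_lhs => rw [eq_inr_of_mem_J₀ j.2]
    ext <;> simp
  | add x y hx hy =>
    obtain ⟨m₁, rfl⟩ := hx
    obtain ⟨m₂, rfl⟩ := hy
    exact ⟨m₁ + m₂, (tmul_add _ _ _).symm⟩

include hsurj hP in
lemma rTensor_injective :
    Function.Injective ((J₀ A).subtype.rTensor (DualNumber R ⧸ J)) := by
  rw [injective_iff_map_eq_zero]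
  intro z hz
  obtain ⟨m, rfl⟩ := exists_eps_tmul J z
  rw [LinearMap.rTensor_tmul] at hz
  have h1 : (ε : DualNumber A) • m = 0 := by
    have := congrArg (TensorProduct.lid (DualNumber A) (DualNumber R ⧸ J)) hz
    simpa [epsJ] using this
  obtain ⟨x, rfl⟩ := Ideal.Quotient.mk_surjective m
  have h2 : (inr x.fst : DualNumber R) ∈ J := by
    have h3 : (ε : DualNumber A) • (Ideal.Quotient.mk J x : DualNumber R ⧸ J) =
        Ideal.Quotient.mk J ((ε : DualNumber A) • x) := rfl
    rw [h3, Ideal.Quotient.eq_zero_iff_mem, Algebra.smul_def, algebraMap_dual] at h1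
    convert h1 using 1
    ext <;> simp
  obtain ⟨c, hc⟩ := exists_eq_eps_smul (A := A) I J hsurj x (hP _ h2)
  have h4 := TensorProduct.smul_tmul (R := DualNumber A)
    (ε : DualNumber A) (epsJ : ↥(J₀ A)) (Ideal.Quotient.mk J (inl c) : DualNumber R ⧸ J)
  rw [hc, ← h4]
  have : (ε : DualNumber A) • (epsJ : ↥(J₀ A)) = 0 := by
    apply Subtype.ext
    rw [Submodule.coe_smul, epsJ, smul_eq_mul]
    simp
  rw [this, zero_tmul]

/-- `A` as an `A[ε]`-algebra via `ε ↦ 0`. -/
noncomputable abbrev algSA : Algebra (DualNumber A) A := (fstHom A A A).toRingHom.toAlgebra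

attribute [local instance] algSA

lemma algebraMap_SA (s : DualNumber A) : algebraMap (DualNumber A) A s = s.fst := rfl

/-- `R/I` as an `A[ε]`-module via `ε ↦ 0`. -/
noncomputable abbrev modSRI : Module (DualNumber A) (R ⧸ I) :=
  Module.compHom (R ⧸ I) (fstHom A A A).toRingHom

attribute [local instance 5] modSRI

lemma smul_RI (s : DualNumber A) (y : R ⧸ I) : s • y = s.fst • y := rfl

instance : IsScalarTower (DualNumber A) A (R ⧸ I) :=
  ⟨fun s a y => by
    change (s.fst * a) • y = s.fst • (a • y)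
    exact mul_smul _ _ _⟩

include hfst in
/-- the reduction map `R[ε]/J → R/I` as a ring hom. -/
noncomputable def redRing : (DualNumber R ⧸ J) →+* (R ⧸ I) :=
  Ideal.Quotient.lift J ((Ideal.Quotient.mk I).comp (fstHom A R R).toRingHom)
    (fun x hx => by
      change Ideal.Quotient.mk I x.fst = 0
      exact Ideal.Quotient.eq_zero_iff_mem.mpr (hfst x hx))

lemma redRing_mk (x : DualNumber R) :
    redRing (A := A) I J hfst (Ideal.Quotient.mk J x) = Ideal.Quotient.mk I x.fst :=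
  Ideal.Quotient.lift_mk _ _ _

/-- the reduction map `R[ε]/J → R/I`. -/
noncomputable def red : (DualNumber R ⧸ J) →ₗ[DualNumber A] (R ⧸ I) where
  toFun := redRing (A := A) I J hfst
  map_add' := map_add _
  map_smul' := by
    intro s m
    obtain ⟨x, rfl⟩ := Ideal.Quotient.mk_surjective m
    change redRing (A := A) I J hfst (Ideal.Quotient.mk J (s • x)) =
      s.fst • redRing (A := A) I J hfst (Ideal.Quotient.mk J x)
    rw [redRing_mk, redRing_mk, Algebra.smul_def, TrivSqZeroExt.fst_mul, fst_algebraMap,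
      Algebra.smul_def, map_mul]
    rfl

lemma red_mk (x : DualNumber R) :
    red (A := A) I J hfst (Ideal.Quotient.mk J x) = Ideal.Quotient.mk I x.fst :=
  redRing_mk I J hfst x

lemma exists_one_tmul (z : A ⊗[DualNumber A] (DualNumber R ⧸ J)) :
    ∃ m : DualNumber R ⧸ J, z = (1 : A) ⊗ₜ[DualNumber A] m := by
  induction z using TensorProduct.induction_on with
  | zero => exact ⟨0, (tmul_zero _ _).symm⟩
  | tmul a m =>
    refine ⟨(inl a : DualNumber A) • m, ?_⟩
    have h1 := TensorProduct.smul_tmul (R := DualNumber A) (inl a : DualNumber A) (1 : A) m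
    rw [← h1]
    congr 1
    rw [Algebra.smul_def, algebraMap_SA]
    simp
  | add x y hx hy =>
    obtain ⟨m₁, rfl⟩ := hx
    obtain ⟨m₂, rfl⟩ := hy
    exact ⟨m₁ + m₂, (tmul_add _ _ _).symm⟩

include hsurj in
lemma liftBaseChange_bijective :
    Function.Bijective ((red (A := A) I J hfst).liftBaseChange A) := by
  constructor
  · rw [injective_iff_map_eq_zero]
    intro z hz
    obtain ⟨m, rfl⟩ := exists_one_tmul J z
    rw [LinearMap.liftBaseChange_tmul, one_smul] at hz
    obtain ⟨x, rfl⟩ := Ideal.Quotient.mk_surjective m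
    rw [red_mk, Ideal.Quotient.eq_zero_iff_mem] at hz
    obtain ⟨c, hc⟩ := exists_eq_eps_smul (A := A) I J hsurj x hz
    have h4 := TensorProduct.smul_tmul (R := DualNumber A)
      (ε : DualNumber A) (1 : A) (Ideal.Quotient.mk J (inl c) : DualNumber R ⧸ J)
    rw [hc, ← h4]
    have : (ε : DualNumber A) • (1 : A) = 0 := by
      rw [Algebra.smul_def, algebraMap_SA]
      simp
    rw [this, zero_tmul]
  · intro y
    obtain ⟨r, rfl⟩ := Ideal.Quotient.mk_surjective y
    refine ⟨(1 : A) ⊗ₜ[DualNumber A] (Ideal.Quotient.mk J (inl r) : DualNumber R ⧸ J), ?_⟩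
    rw [LinearMap.liftBaseChange_tmul, one_smul, red_mk]
    simp

include hfst hsurj in
lemma flat_tensor [Module.Flat A (R ⧸ I)] :
    Module.Flat A (A ⊗[DualNumber A] (DualNumber R ⧸ J)) :=
  Module.Flat.of_linearEquiv
    (LinearEquiv.ofBijective _ (liftBaseChange_bijective (A := A) I J hfst hsurj))

include hfst hsurj hP in
theorem flat_quotient [Module.Flat A (R ⧸ I)] :
    Module.Flat (DualNumber A) (DualNumber R ⧸ J) := by
  haveI := flat_tensor (A := A) I J hfst hsurj
  haveI : IsScalarTower (DualNumber A) A (DualNumber A ⧸ J₀ A) := by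
    refine IsScalarTower.of_algebraMap_eq (R := DualNumber A) (S := A)
      (A := DualNumber A ⧸ J₀ A) (fun s => ?_)
    rw [algebraMap_SA]
    change Ideal.Quotient.mk (J₀ A) s = Ideal.Quotient.mk (J₀ A) (inl s.fst)
    rw [Ideal.Quotient.eq, mem_J₀]
    simp
  haveI : Module.Flat (DualNumber A ⧸ J₀ A)
      ((DualNumber A ⧸ J₀ A) ⊗[DualNumber A] (DualNumber R ⧸ J)) :=
    Module.Flat.of_linearEquiv
      (AlgebraTensorModule.cancelBaseChange (DualNumber A) A (DualNumber A ⧸ J₀ A)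
        (DualNumber A ⧸ J₀ A) (DualNumber R ⧸ J)).symm
  exact Groth.Agent.H1.flat_of_isNilpotent_of_flat_quotient (J₀ A) J₀_nilpotent
    (rTensor_injective I J hsurj hP)

include hfst in
theorem hP_of_flat [Module.Flat (DualNumber A) (DualNumber R ⧸ J)] (r : R)
    (hr : (inr r : DualNumber R) ∈ J) : r ∈ I := by
  have h0 : (ε : DualNumber A) • (Ideal.Quotient.mk J (inl r) : DualNumber R ⧸ J) = 0 := by
    change Ideal.Quotient.mk J ((ε : DualNumber A) • (inl r : DualNumber R)) = 0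
    rw [Ideal.Quotient.eq_zero_iff_mem]
    convert hr using 1
    rw [Algebra.smul_def, algebraMap_dual]
    ext <;> simp
  obtain ⟨k, a, y, h1, h2⟩ := Module.Flat.isTrivialRelation_of_sum_smul_eq_zero
    (R := DualNumber A) (ι := Unit) (f := fun _ => (ε : DualNumber A))
    (x := fun _ => (Ideal.Quotient.mk J (inl r) : DualNumber R ⧸ J)) (by simpa using h0)
  have h3 := congrArg (red (A := A) I J hfst) (h1 ())
  rw [red_mk, map_sum] at h3
  have h4 : ∀ j, (a () j).fst = 0 := by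
    intro j
    have := congrArg TrivSqZeroExt.snd (h2 j)
    simpa using this
  have h5 : ∀ j ∈ Finset.univ, red (A := A) I J hfst (a () j • y j) = 0 := by
    intro j _
    rw [map_smul, smul_RI, h4 j, zero_smul]
  rw [Finset.sum_eq_zero h5] at h3
  simpa [Ideal.Quotient.eq_zero_iff_mem] using h3

end flat

section main

variable (I : Ideal R)

lemma mem_liftIdeal {φ : I →ₗ[R] R ⧸ I} {x : DualNumber R} :
    x ∈ liftIdeal I φ ↔ ∃ h : x.fst ∈ I, Ideal.Quotient.mk I x.snd = φ ⟨x.fst, h⟩ := Iff.rfl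

lemma map_fst_eq_iff (J : Ideal (DualNumber R)) :
    Ideal.map (TrivSqZeroExt.fstHom A R R) J = I ↔
      (∀ x ∈ J, x.fst ∈ I) ∧ (∀ a ∈ I, ∃ x ∈ J, x.fst = a) := by
  have hs : Function.Surjective (TrivSqZeroExt.fstHom A R R) := fun r => ⟨inl r, rfl⟩
  constructor
  · intro h
    refine ⟨fun x hx => ?_, fun a ha => ?_⟩
    · rw [← h]
      exact Ideal.mem_map_of_mem (TrivSqZeroExt.fstHom A R R) hx
    · rw [← h, Ideal.mem_map_iff_of_surjective _ hs] at ha
      exact ha
  · rintro ⟨h1, h2⟩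
    apply le_antisymm
    · rw [Ideal.map_le_iff_le_comap]
      intro x hx
      exact h1 x hx
    · intro a ha
      obtain ⟨x, hx, rfl⟩ := h2 a ha
      exact Ideal.mem_map_of_mem (TrivSqZeroExt.fstHom A R R) hx

lemma liftIdeal_fst (φ : I →ₗ[R] R ⧸ I) : ∀ x ∈ liftIdeal I φ, x.fst ∈ I :=
  fun _ hx => hx.1

lemma liftIdeal_surj (φ : I →ₗ[R] R ⧸ I) : ∀ a ∈ I, ∃ x ∈ liftIdeal I φ, x.fst = a := by
  intro a ha
  obtain ⟨b, hb⟩ := Ideal.Quotient.mk_surjective (φ ⟨a, ha⟩)
  refine ⟨inl a + inr b, ?_, by simp⟩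
  rw [mem_liftIdeal]
  have h1 : (inl a + inr b : DualNumber R).fst = a := by simp
  have h2 : (inl a + inr b : DualNumber R).snd = b := by simp
  have h3 : (inl a + inr b : DualNumber R).fst ∈ I := by rw [h1]; exact ha
  refine ⟨h3, ?_⟩
  rw [h2, hb]
  congr 1
  exact Subtype.ext h1.symm

lemma liftIdeal_P (φ : I →ₗ[R] R ⧸ I) : ∀ r : R, (inr r : DualNumber R) ∈ liftIdeal I φ → r ∈ I := by
  intro r hr
  obtain ⟨h, h'⟩ := hr
  have : (⟨(inr r : DualNumber R).fst, h⟩ : I) = 0 := Subtype.ext (by simp)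
  rw [this, map_zero, TrivSqZeroExt.snd_inr, Ideal.Quotient.eq_zero_iff_mem] at h'
  exact h'

lemma liftIdeal_injective : Function.Injective (liftIdeal I) := by
  intro φ ψ h
  ext ⟨a, ha⟩
  obtain ⟨x, hx, hxa⟩ := liftIdeal_surj I φ a ha
  have hx' : x ∈ liftIdeal I ψ := h ▸ hx
  obtain ⟨h1, h2⟩ := hx
  obtain ⟨h3, h4⟩ := hx'
  have e : (⟨x.fst, h1⟩ : I) = ⟨a, ha⟩ := Subtype.ext hxa
  rw [e] at h2
  have e' : (⟨x.fst, h3⟩ : I) = ⟨a, ha⟩ := Subtype.ext hxa
  rw [e'] at h4
  rw [← h2, ← h4]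

section exists_phi

variable (J : Ideal (DualNumber R))
  (hfst : ∀ x ∈ J, x.fst ∈ I) (hsurj : ∀ a ∈ I, ∃ x ∈ J, x.fst = a)
  (hP : ∀ r : R, (inr r : DualNumber R) ∈ J → r ∈ I)

include hP in
lemma snd_congr {x x' : DualNumber R} (hx : x ∈ J) (hx' : x' ∈ J) (h : x.fst = x'.fst) :
    Ideal.Quotient.mk I x.snd = Ideal.Quotient.mk I x'.snd := by
  rw [Ideal.Quotient.eq]
  apply hP
  have : (inr (x.snd - x'.snd) : DualNumber R) = x - x' := by
    ext <;> simp [h]
  rw [this]
  exact J.sub_mem hx hx'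

include hsurj in
lemma inr_mem {c : R} (hc : c ∈ I) : (inr c : DualNumber R) ∈ J := by
  obtain ⟨w, hw, rfl⟩ := hsurj c hc
  have : (inr w.fst : DualNumber R) = (ε : DualNumber R) * w := by
    ext <;> simp
  rw [this]
  exact J.mul_mem_left _ hw

/-- the homomorphism attached to a lifting. -/
noncomputable def phiOf : I →ₗ[R] R ⧸ I where
  toFun a := Ideal.Quotient.mk I (hsurj a.1 a.2).choose.snd
  map_add' a b := by
    obtain ⟨h1, h2⟩ := (hsurj a.1 a.2).choose_spec
    obtain ⟨h3, h4⟩ := (hsurj b.1 b.2).choose_spec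
    obtain ⟨h5, h6⟩ := (hsurj (a + b).1 (a + b).2).choose_spec
    rw [← map_add, ← TrivSqZeroExt.snd_add]
    refine snd_congr I J hP h5 (J.add_mem h1 h3) ?_
    rw [h6, TrivSqZeroExt.fst_add, h2, h4]
    rfl
  map_smul' r a := by
    obtain ⟨h1, h2⟩ := (hsurj a.1 a.2).choose_spec
    obtain ⟨h5, h6⟩ := (hsurj (r • a).1 (r • a).2).choose_spec
    have h7 : (inl r : DualNumber R) * (hsurj a.1 a.2).choose ∈ J := J.mul_mem_left _ h1
    rw [RingHom.id_apply, Algebra.smul_def, Ideal.Quotient.algebraMap_eq, ← map_mul]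
    have h8 : r * (hsurj a.1 a.2).choose.snd =
        ((inl r : DualNumber R) * (hsurj a.1 a.2).choose).snd := by simp
    rw [h8]
    refine snd_congr I J hP h5 h7 ?_
    rw [h6, TrivSqZeroExt.fst_mul, h2]
    simp

lemma phiOf_eq {x : DualNumber R} (hx : x ∈ J) :
    phiOf I J hsurj hP ⟨x.fst, hfst x hx⟩ = Ideal.Quotient.mk I x.snd := by
  obtain ⟨h1, h2⟩ := (hsurj x.fst (hfst x hx)).choose_spec
  exact snd_congr I J hP h1 hx h2

include hfst in
lemma eq_liftIdeal : J = liftIdeal I (phiOf I J hsurj hP) := by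
  apply le_antisymm
  · intro x hx
    exact ⟨hfst x hx, (phiOf_eq I J hfst hsurj hP hx).symm⟩
  · intro x hx
    obtain ⟨h, h'⟩ := hx
    obtain ⟨x', hx', hfx⟩ := hsurj x.fst h
    have e : (⟨x.fst, h⟩ : I) = ⟨x'.fst, hfst x' hx'⟩ := Subtype.ext hfx.symm
    rw [e, phiOf_eq I J hfst hsurj hP hx', Ideal.Quotient.eq] at h'
    have : x = x' + inr (x.snd - x'.snd) := by
      ext <;> simp [hfx]
    rw [this]
    exact J.add_mem hx' (inr_mem I J hsurj h')

end exists_phi

theorem main19452 (A : Type u) [CommRing A] (R : Type u) [CommRing R]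
    [Algebra A R] (I : Ideal R) [Module.Flat A (R ⧸ I)] :
    (∀ φ : I →ₗ[R] R ⧸ I,
        Module.Flat (DualNumber A) (DualNumber R ⧸ W4c6puncthilbintro.liftIdeal I φ) ∧
          Ideal.map (TrivSqZeroExt.fstHom A R R) (W4c6puncthilbintro.liftIdeal I φ) = I) ∧
      Function.Injective (W4c6puncthilbintro.liftIdeal I) ∧
      ∀ J : Ideal (DualNumber R), Module.Flat (DualNumber A) (DualNumber R ⧸ J) →
        Ideal.map (TrivSqZeroExt.fstHom A R R) J = I →
          ∃ φ : I →ₗ[R] R ⧸ I, J = W4c6puncthilbintro.liftIdeal I φ := by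
  refine ⟨fun φ => ⟨?_, ?_⟩, liftIdeal_injective I, ?_⟩
  · exact flat_quotient I _ (liftIdeal_fst I φ) (liftIdeal_surj I φ) (liftIdeal_P I φ)
  · rw [map_fst_eq_iff]
    exact ⟨liftIdeal_fst I φ, liftIdeal_surj I φ⟩
  · intro J hJ hmap
    rw [map_fst_eq_iff] at hmap
    obtain ⟨hfst, hsurj⟩ := hmap
    have hP := hP_of_flat (A := A) I J hfst
    exact ⟨phiOf I J hsurj hP, eq_liftIdeal I J hfst hsurj hP⟩

end main

end Groth.Agent.H5.DN
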